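import Groth.Agent.PicLib.Group
import Groth.Agent.ParaFLib.UFD
import Groth.Agent.ParaFLib.Extend

/-!
# Invertible modules on affine schemes with factorial rings
-/

set_option autoImplicit false
set_option backward.isDefEq.respectTransparency false
set_option linter.style.haveILetI false

universe u

open CategoryTheory AlgebraicGeometry TopologicalSpace
open Groth.Agent.ParaFLib Groth.Agent.AmpleLib

noncomputable section

namespace Groth.Agent.PicProjLib

/-- A generator on everything trivialises. -/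
theorem triv_of_gen_top {X : Scheme.{u}} {L : X.Modules} {s : Γ(L, (⊤ : X.Opens))} (hs : Gen ⊤ s) :
    Nonempty (L ≅ Coh.structureModule X) := by
  let φ := DCohLib.secHom L s
  haveI : IsIso φ := isIso_of_locally_app φ fun _ => ⟨⊤, trivial, fun O hO => by
    rw [show (φ.app O : Γ(X, O) → Γ(L, O)) = fun r : Γ(X, O) => r • resT s O from
      funext fun r : Γ(X, O) => by rw [← sec_secHom (L := L) s]; exact app_eq φ O r]
    exact hs O hO⟩
  exact ⟨(asIso φ).symm⟩

theorem pic_spec_ufd {R : CommRingCat.{u}} [IsDomain R] [UniqueFactorizationMonoid R] (a : PicLib.Pic (Spec R)) : a = 1 := by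
  classical
  obtain ⟨L, hL, rfl⟩ := PicLib.exists_cls a
  rw [PicLib.cls_eq_one]
  choose W hxW s hs using fun x : ↥(Spec R) => (show ∃ W : (Spec R).Opens, x ∈ W ∧ ∃ s : Γ(L, W), Gen W s by
    obtain ⟨W, s, hx, hs⟩ := exists_gen_nhd hL x; exact ⟨W, hx, s, hs⟩)
  obtain ⟨t, ht⟩ := (isCompact_univ (X := ↥(Spec R))).elim_finite_subcover
    (fun x => (W x : Set ↥(Spec R))) (fun x => (W x).isOpen) fun y _ => Set.mem_iUnion.2 ⟨y, hxW y⟩
  have key : ∀ t : Finset ↥(Spec R), ∃ v : Γ(L, t.sup W), Gen (t.sup W) v := by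
    intro t
    induction t using Finset.induction with
    | empty =>
      rw [Finset.sup_empty]
      exact exists_gen_bot
    | insert x t hx ih =>
      obtain ⟨v, hv⟩ := ih
      rw [Finset.sup_insert]
      exact exists_gen_union (hs x) hv
  obtain ⟨v, hv⟩ := key t
  have htop : t.sup W = (⊤ : (Spec R).Opens) := eq_top_iff.2 fun y _ => by
    obtain ⟨x, hxt, hyx⟩ := Set.mem_iUnion₂.1 (ht (Set.mem_univ y))
    exact (Finset.le_sup (f := W) hxt) hyx
  obtain ⟨v', hv'⟩ := exists_gen_of_eq htop ⟨v, hv⟩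
  exact triv_of_gen_top hv'

theorem pic_affine_ufd {X : Scheme.{u}} [IsAffine X] [IsDomain Γ(X, ⊤)] [UniqueFactorizationMonoid Γ(X, ⊤)]
    (a : PicLib.Pic X) : a = 1 := by
  have h := congrArg (PicLib.pull X.isoSpec.hom) (pic_spec_ufd (PicLib.pull X.isoSpec.inv a))
  rwa [← PicLib.pull_comp, Iso.hom_inv_id, PicLib.pull_id, map_one] at h

end Groth.Agent.PicProjLib
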