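import Groth.Agent.PicProjLib.Units
import Groth.Agent.PicProjLib.Affine
import Groth.Agent.ProjTwistLib.Mul
import Groth.Agent.ParaFLib.Stalkwise
import Mathlib.RingTheory.Polynomial.UniqueFactorization

/-!
# The Picard group of projective space over a factorial ring
-/

set_option autoImplicit false
set_option backward.isDefEq.respectTransparency false
set_option linter.style.haveILetI false
set_option linter.unusedSectionVars false

universe u

open CategoryTheory AlgebraicGeometry TopologicalSpace Opposite TensorProduct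
open Groth.Agent.AmpleEmb Groth.Agent.AmpleLib Groth.Agent.ParaFLib Groth.Agent.PicLib Groth.Agent.PullbackMod
open Groth.Agent.DCohLib

noncomputable section

namespace Groth.Agent.PicProjLib

variable {n : ℕ} {R : Type u} [CommRing R] [IsDomain R]

/-- The generic germ of a section on a standard open. -/
def γ {L : (CohB1.ProjSpace n R).Modules} {i : Fin (n + 1)} (g : Γ(L, stdOpen n R i)) :
    L.presheaf.stalk (gen n R) :=
  L.presheaf.germ _ (gen n R) (gen_mem n R (W := stdOpen n R i)) g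

theorem bijective_γ {L : (CohB1.ProjSpace n R).Modules} {i : Fin (n + 1)} {g : Γ(L, stdOpen n R i)}
    (hg : Gen (stdOpen n R i) g) :
    Function.Bijective fun r : (CohB1.ProjSpace n R).presheaf.stalk (gen n R) => r • γ g :=
  hg.bijective_germ _ _

/-- Trivialisations on the standard opens of twisting degree `d`. -/
def HasDeg (L : (CohB1.ProjSpace n R).Modules) (d : ℤ) : Prop :=
  ∃ g : ∀ i, Γ(L, stdOpen n R i), (∀ i, Gen (stdOpen n R i) (g i)) ∧
    ∀ i, ∃ r : Rˣ, γ (g 0) = (cst n R r * t n R i 0 ^ d) • γ (g i)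

theorem HasDeg.of_iso {L M : (CohB1.ProjSpace n R).Modules} {d : ℤ} (e : L ≅ M) (h : HasDeg L d) : HasDeg M d := by
  obtain ⟨g, hg, hc⟩ := h
  refine ⟨fun i => e.hom.app _ (g i), fun i => gen_of_modIso e (hg i), fun i => ?_⟩
  obtain ⟨r, hr⟩ := hc i
  refine ⟨r, ?_⟩
  have he : ∀ k, γ (e.hom.app _ (g k)) = stalkLin e.hom (gen n R) (γ (g k)) := fun k =>
    (stalkLin_germ e.hom (gen n R) (gen_mem n R (W := stdOpen n R k)) (g k)).symm
  rw [he, he, hr, map_smul]

theorem HasDeg.tensor {L M : (CohB1.ProjSpace n R).Modules} {d d' : ℤ} (h : HasDeg L d) (h' : HasDeg M d') :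
    HasDeg (CohB1.tensorMod L M) (d + d') := by
  obtain ⟨g, hg, hc⟩ := h
  obtain ⟨g', hg', hc'⟩ := h'
  refine ⟨fun i => pairS L M (g i) (g' i), fun i => gen_pairS (hg i) (hg' i), fun i => ?_⟩
  obtain ⟨r, hr⟩ := hc i
  obtain ⟨r', hr'⟩ := hc' i
  refine ⟨r * r', ?_⟩
  have he : ∀ k, γ (L := CohB1.tensorMod L M) (pairS L M (g k) (g' k)) =
      stalkTensor (gen n R) L M (γ (g k) ⊗ₜ γ (g' k)) := fun k => germ_pairS _ _ _ _
  rw [he, he, hr, hr', TensorProduct.smul_tmul_smul, map_smul, cst_mul, zpow_add₀ (t_ne_zero n R i 0)]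
  congr 1
  ring

theorem γ_one (i : Fin (n + 1)) :
    γ (L := Coh.structureModule (CohB1.ProjSpace n R)) (1 : Γ(CohB1.ProjSpace n R, stdOpen n R i)) =
      γ (L := Coh.structureModule (CohB1.ProjSpace n R)) (1 : Γ(CohB1.ProjSpace n R, stdOpen n R 0)) :=
  TopCat.Presheaf.germ_ext (Coh.structureModule (CohB1.ProjSpace n R)).presheaf (stdOpen n R i ⊓ stdOpen n R 0)
    ⟨gen_mem n R, gen_mem n R⟩ (homOfLE inf_le_left) (homOfLE inf_le_right)
    ((map_one ((CohB1.ProjSpace n R).presheaf.map (homOfLE (inf_le_left : stdOpen n R i ⊓ stdOpen n R 0 ≤ _)).op).hom).trans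
      (map_one ((CohB1.ProjSpace n R).presheaf.map (homOfLE (inf_le_right : stdOpen n R i ⊓ stdOpen n R 0 ≤ _)).op).hom).symm)

theorem hasDeg_one : HasDeg (Coh.structureModule (CohB1.ProjSpace n R)) 0 := by
  refine ⟨fun i => (1 : Γ(CohB1.ProjSpace n R, stdOpen n R i)), fun i => gen_one _, fun i => ⟨1, ?_⟩⟩
  rw [cst_one, zpow_zero, _root_.mul_one, one_smul, γ_one i]

theorem hasDeg_twistOne : HasDeg (Twist.twistProjSpace n R 1) 1 := by
  refine ⟨fun i => resT (sec (coordSec n R i)) (stdOpen n R i), gen_coordSec n R, fun i => ⟨1, ?_⟩⟩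
  rw [cst_one, _root_.one_mul, zpow_one]
  exact tau_eq n R i 0

theorem eq_zero_of_hasDeg_structureModule (hn : n ≠ 0) {d : ℤ}
    (h : HasDeg (Coh.structureModule (CohB1.ProjSpace n R)) d) : d = 0 := by
  obtain ⟨g, hg, hc⟩ := h
  have hu : ∀ i, ∃ r : Rˣ, γ (g i) = cst n R r • γ (L := Coh.structureModule (CohB1.ProjSpace n R))
      (1 : Γ(CohB1.ProjSpace n R, stdOpen n R i)) := fun i => by
    obtain ⟨a, ha, he⟩ := (hg i).exists_unit (gen_one (stdOpen n R i))
    obtain ⟨r, hr⟩ := exists_unit_eq_cst n R i a ha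
    refine ⟨r, ?_⟩
    rw [← hr, ← he]
    exact germ_smul' _ _ _ _
  obtain ⟨m, rfl⟩ : ∃ m, n = m + 1 := ⟨n - 1, by omega⟩
  obtain ⟨i, hi⟩ : ∃ i : Fin (m + 1 + 1), i ≠ 0 := ⟨1, one_ne_zero⟩
  obtain ⟨k, hk⟩ : ∃ k, i.succAbove k = 0 := Fin.exists_succAbove_eq hi.symm
  obtain ⟨r, hr⟩ := hc i
  obtain ⟨r₀, hr₀⟩ := hu 0
  obtain ⟨r₁, hr₁⟩ := hu i
  rw [hr₀, hr₁, γ_one i, smul_smul] at hr
  replace hr := (bijective_γ (gen_one (stdOpen (m + 1) R 0))).1 hr
  refine exponent_eq_zero _ R i k (r * r₁ * r₀⁻¹) d ?_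
  rw [hk, cst_mul, cst_mul, cst_inv]
  have := cst_ne_zero (m + 1) R r₀
  field_simp
  linear_combination -hr

variable [UniqueFactorizationMonoid R]

theorem exists_gen_stdOpen {L : (CohB1.ProjSpace n R).Modules} (hL : PicF.IsInvertible L) (i : Fin (n + 1)) :
    ∃ g : Γ(L, stdOpen n R i), Gen (stdOpen n R i) g := by
  let U := stdOpen n R i
  haveI : IsAffine (U : Scheme.{u}) := isAffineOpen_stdOpen n R i
  let e : MvPolynomial (Fin n) R ≃+* Γ((U : Scheme.{u}), ⊤) :=
    (chartEquiv n R i).trans U.topIso.symm.commRingCatIsoToRingEquiv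
  haveI : IsDomain Γ((U : Scheme.{u}), ⊤) := e.symm.toMulEquiv.isDomain (MvPolynomial (Fin n) R)
  haveI : UniqueFactorizationMonoid Γ((U : Scheme.{u}), ⊤) := e.toMulEquiv.uniqueFactorizationMonoid inferInstance
  obtain ⟨φ⟩ := (cls_eq_one (isInvertible_pullback U.ι hL)).1 (pic_affine_ufd (cls (isInvertible_pullback U.ι hL)))
  obtain ⟨v, hv⟩ := exists_gen_of_iso ((Scheme.Modules.restrictFunctorIsoPullback U.ι).app L ≪≫ φ)
  exact exists_gen_of_eq U.ι_image_top ⟨v, hv⟩

theorem exists_deg {L : (CohB1.ProjSpace n R).Modules} (hL : PicF.IsInvertible L) : ∃ d, HasDeg L d := by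
  choose g hg using exists_gen_stdOpen hL
  have hu : ∀ (i : Fin (n + 1)) (k : Fin n), ∃ (r : Rˣ) (m : ℤ),
      γ (g (i.succAbove k)) = (cst n R r * t n R i (i.succAbove k) ^ m) • γ (g i) := fun i k => by
    let W := stdOpen n R i ⊓ stdOpen n R (i.succAbove k)
    haveI : Nonempty W := ⟨⟨gen n R, gen_mem n R, gen_mem n R⟩⟩
    obtain ⟨a, ha, he⟩ := ((hg (i.succAbove k)).res (inf_le_right : W ≤ _)).exists_unit ((hg i).res (inf_le_left : W ≤ _))
    obtain ⟨r, m, hr⟩ := exists_unit_eq n R i k (W := W) rfl a ha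
    refine ⟨r, m, ?_⟩
    have h := congrArg (L.presheaf.germ W (gen n R) ⟨gen_mem n R, gen_mem n R⟩) he
    rw [germ_smul', TopCat.Presheaf.germ_res_apply, TopCat.Presheaf.germ_res_apply] at h
    rw [← hr]
    exact h.symm
  cases n with
  | zero =>
    refine ⟨0, g, hg, fun i => ⟨1, ?_⟩⟩
    obtain rfl : i = 0 := Subsingleton.elim (α := Fin 1) i 0
    rw [cst_one, zpow_zero, _root_.mul_one, one_smul]
  | succ m =>
    have h0 : ∀ i : Fin (m + 1 + 1), i ≠ 0 → ∃ (r : Rˣ) (d : ℤ), γ (g 0) = (cst _ R r * t _ R i 0 ^ d) • γ (g i) :=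
      fun i hi => by
        obtain ⟨k, hk⟩ : ∃ k, i.succAbove k = 0 := Fin.exists_succAbove_eq hi.symm
        have := hu i k
        rwa [hk] at this
    choose r d hrd using h0
    refine ⟨d 1 one_ne_zero, g, hg, fun j => ?_⟩
    rcases eq_or_ne j 0 with rfl | hj
    · exact ⟨1, by rw [cst_one, t_self, one_zpow, _root_.mul_one, one_smul]⟩
    suffices d j hj = d 1 one_ne_zero by rw [← this]; exact ⟨_, hrd j hj⟩
    rcases eq_or_ne j 1 with rfl | hj1
    · rfl
    obtain ⟨k, hk⟩ : ∃ k, j.succAbove k = 0 := Fin.exists_succAbove_eq hj.symm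
    obtain ⟨l, hl⟩ : ∃ l, j.succAbove l = 1 := Fin.exists_succAbove_eq hj1.symm
    have hkl : k ≠ l := fun h => zero_ne_one (α := Fin (m + 1 + 1)) (hk.symm.trans ((congrArg _ h).trans hl))
    obtain ⟨r', e, he⟩ := hu j l
    rw [hl] at he
    have h1 := hrd 1 one_ne_zero
    rw [he, smul_smul] at h1
    have h2 := (bijective_γ (hg j)).1 ((hrd j hj).symm.trans h1)
    rw [← t_mul (m + 1) R 1 j 0, mul_zpow] at h2
    have ht : t (m + 1) R 1 j = (t (m + 1) R j 1)⁻¹ := eq_inv_of_mul_eq_one_left (by rw [t_mul, t_self])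
    rw [ht, inv_zpow'] at h2
    refine sub_eq_zero.1 (exponents_eq_zero _ R j k l hkl (r j hj * (r 1 one_ne_zero * r')⁻¹)
      (d j hj - d 1 one_ne_zero) (d 1 one_ne_zero - e) ?_).1
    rw [hk, hl, cst_mul, cst_inv, cst_mul, zpow_sub₀ (t_ne_zero _ R j 0), zpow_sub₀ (t_ne_zero _ R j 1)]
    have := cst_ne_zero (m + 1) R (r 1 one_ne_zero)
    have := cst_ne_zero (m + 1) R r'
    have := zpow_ne_zero (d 1 one_ne_zero) (t_ne_zero (m + 1) R j 0)
    have := zpow_ne_zero e (t_ne_zero (m + 1) R j 1)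
    rw [zpow_neg] at h2
    have := zpow_ne_zero (d 1 one_ne_zero) (t_ne_zero (m + 1) R j 1)
    field_simp at h2 ⊢
    linear_combination h2

theorem triv_of_hasDeg_zero {L : (CohB1.ProjSpace n R).Modules} (h : HasDeg L 0) :
    Nonempty (L ≅ Coh.structureModule (CohB1.ProjSpace n R)) := by
  obtain ⟨g, hg, hc⟩ := h
  choose r hr using hc
  simp only [zpow_zero, _root_.mul_one] at hr
  let c : ∀ i, Γ(CohB1.ProjSpace n R, stdOpen n R i) := fun i => chartEquiv n R i (MvPolynomial.C (r i : R))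
  let g' : ∀ i, Γ(L, stdOpen n R i) := fun i => c i • g i
  have hg' : ∀ i, Gen _ (g' i) := fun i => (hg i).smul (((r i).isUnit.map MvPolynomial.C).map (chartEquiv n R i))
  have hγ : ∀ i, γ (g' i) = γ (g 0) := fun i => by
    rw [hr i, cst, φ_C n R 0 i]
    exact germ_smul' _ _ _ _
  obtain ⟨s, hs⟩ := exists_gen_of_compatible (κ := ULift.{u} (Fin (n + 1))) (fun i => stdOpen n R i.down)
    (fun i => g' i.down) (fun i => hg' i.down) (fun i j => by
      let W := stdOpen n R i.down ⊓ stdOpen n R j.down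
      haveI : Nonempty W := ⟨⟨gen n R, gen_mem n R, gen_mem n R⟩⟩
      obtain ⟨a, -, ha⟩ := ((hg' i.down).res (inf_le_left : W ≤ _)).exists_unit ((hg' j.down).res (inf_le_right : W ≤ _))
      have h1 := congrArg (L.presheaf.germ W (gen n R) ⟨gen_mem n R, gen_mem n R⟩) ha
      rw [germ_smul', TopCat.Presheaf.germ_res_apply, TopCat.Presheaf.germ_res_apply] at h1
      change _ • γ (g' j.down) = γ (g' i.down) at h1
      rw [hγ i.down, ← hγ j.down] at h1
      have h2 : (CohB1.ProjSpace n R).presheaf.germ W (gen n R) ⟨gen_mem n R, gen_mem n R⟩ a = 1 :=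
        (bijective_γ (hg' j.down)).1 (h1.trans (one_smul _ _).symm)
      have h3 : a = 1 := (CohB1.ProjSpace n R).germToFunctionField_injective W (h2.trans (map_one _).symm)
      rw [h3, one_smul] at ha
      exact ha.symm) ⊤ (fun _ => le_top) ((iSup_stdOpen n R).ge.trans (iSup_le fun a =>
        le_iSup (fun i : ULift.{u} (Fin (n + 1)) => stdOpen n R i.down) ⟨a⟩))
  exact triv_of_gen_top hs

theorem hasUnit (d : ℤ) (x : CohB1.ProjSpace n R) : ProjTwistLib.HasUnit (CohB1.polyGrading n R) d x := by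
  obtain ⟨i, hi⟩ := Opens.mem_iSup.1 ((iSup_stdOpen n R).ge (Opens.mem_top x))
  simpa using (ProjTwistLib.hasUnit_of_mem (coordForm n R i) hi).zmul d

theorem isInvertible_twist (d : ℤ) : PicF.IsInvertible (Twist.twistProjSpace n R d) :=
  ProjTwistLib.isInvertible_of_hasUnit (hasUnit d)

theorem cls_twist_mul (d e : ℤ) : cls (isInvertible_twist (n := n) (R := R) d) * cls (isInvertible_twist (n := n) (R := R) e) =
    cls (isInvertible_twist (n := n) (R := R) (d + e)) :=
  (cls_eq_cls _ _).2 ⟨ProjTwistLib.mulIso (𝒜 := CohB1.polyGrading n R) (m := d) (n := e) rfl (hasUnit d)⟩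

theorem cls_twist_zero : cls (isInvertible_twist (n := n) (R := R) 0) = 1 :=
  (cls_eq_cls _ _).2 (ProjTwistLib.nonempty_zero_iso (𝒜 := CohB1.polyGrading n R))

theorem hasDeg_twist (hn : n ≠ 0) (d : ℤ) : HasDeg (Twist.twistProjSpace n R d) d := by
  induction d using Int.induction_on with
  | zero =>
    obtain ⟨e⟩ := (cls_eq_one (isInvertible_twist (n := n) (R := R) 0)).1 cls_twist_zero
    exact hasDeg_one.of_iso e.symm
  | succ i ih =>
    obtain ⟨e⟩ := (cls_eq_cls (isInvertible_tensor (isInvertible_twist (n := n) (R := R) _) (isInvertible_twist 1))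
      (isInvertible_twist _)).1 (cls_twist_mul (i : ℤ) 1)
    exact (ih.tensor hasDeg_twistOne).of_iso e
  | pred i ih =>
    obtain ⟨e, he⟩ := exists_deg (isInvertible_twist (n := n) (R := R) (-(i : ℤ) - 1))
    obtain ⟨φ⟩ := (cls_eq_cls (isInvertible_tensor (isInvertible_twist (n := n) (R := R) _) (isInvertible_twist 1))
      (isInvertible_twist (-(i : ℤ)))).1 ((cls_twist_mul (-(i : ℤ) - 1) 1).trans (by simp only [sub_add_cancel]))
    obtain ⟨e', he'⟩ := exists_deg (isInvertible_twist (n := n) (R := R) (i : ℤ))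
    have h1 := (he.tensor hasDeg_twistOne).of_iso φ
    obtain ⟨ψ⟩ := (cls_eq_one (isInvertible_tensor (isInvertible_twist (n := n) (R := R) _) (isInvertible_twist (i : ℤ)))).1
      ((cls_twist_mul (-(i : ℤ)) i).trans (by simp only [neg_add_cancel]; exact cls_twist_zero))
    have h2 := eq_zero_of_hasDeg_structureModule hn ((h1.tensor he').of_iso ψ)
    have h3 := eq_zero_of_hasDeg_structureModule hn ((ih.tensor he').of_iso ψ)
    rwa [show e = -(i : ℤ) - 1 by omega] at he

/-- Invertible modules on projective space over a factorial ring are twists. -/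
theorem exists_iso_twist {L : (CohB1.ProjSpace n R).Modules} (hL : PicF.IsInvertible L) :
    ∃ d : ℤ, Nonempty (L ≅ Twist.twistProjSpace n R d) := by
  rcases eq_or_ne n 0 with rfl | hn
  · obtain ⟨g, hg⟩ := exists_deg hL
    refine ⟨0, (cls_eq_cls hL (isInvertible_twist 0)).1 ?_⟩
    rw [cls_twist_zero, cls_eq_one]
    refine triv_of_hasDeg_zero ?_
    obtain ⟨γ₀, h1, h2⟩ := hg
    refine ⟨γ₀, h1, fun i => ?_⟩
    obtain rfl : i = 0 := Subsingleton.elim (α := Fin 1) i 0
    obtain ⟨r, hr⟩ := h2 0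
    exact ⟨r, by simpa [t_self] using hr⟩
  obtain ⟨d, hd⟩ := exists_deg hL
  have h0 := hd.tensor (hasDeg_twist hn (-d))
  rw [add_neg_cancel] at h0
  have h1 := (cls_eq_one (isInvertible_tensor hL (isInvertible_twist (-d)))).2 (triv_of_hasDeg_zero h0)
  refine ⟨d, (cls_eq_cls hL (isInvertible_twist d)).1 ?_⟩
  rw [cls_tensor hL (isInvertible_twist (-d))] at h1
  calc cls hL = cls hL * (cls (isInvertible_twist (-d)) * cls (isInvertible_twist d)) := by
        rw [cls_twist_mul]; simp only [neg_add_cancel]; rw [cls_twist_zero, _root_.mul_one]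
    _ = _ := by rw [← _root_.mul_assoc, h1, _root_.one_mul]

end Groth.Agent.PicProjLib
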