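import Groth.Agent.AmpleEmb.TwistOne
import Groth.Agent.ProjMap.Basic
import Groth.Agent.ProjCoh.PSData
import Groth.Agent.REqLib.P1Line
import Mathlib.AlgebraicGeometry.FunctionField

/-!
# The standard charts of projective space as polynomial rings
-/

set_option autoImplicit false
set_option backward.isDefEq.respectTransparency false
set_option linter.style.haveILetI false
set_option linter.unusedSectionVars false

universe u

open CategoryTheory AlgebraicGeometry TopologicalSpace MvPolynomial HomogeneousLocalization
open Groth.Agent.AmpleEmb Groth.Agent.AmpleLib Groth.Agent.ParaFLib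

noncomputable section

namespace Groth.Agent.PicProjLib

variable (n : ℕ) (R : Type u) [CommRing R]

local notation "𝒢" => CohB1.polyGrading n R

/-- The constants of a chart. -/
def constAway (i : Fin (n + 1)) : R →+* Away 𝒢 (X i : MvPolynomial (Fin (n + 1)) R) :=
  (fromZeroRingHom 𝒢 (Submonoid.powers (X i))).comp (algebraMap R (𝒢 0))

/-- The variables of a chart. -/
def ratioAway (i a : Fin (n + 1)) : Away 𝒢 (X i : MvPolynomial (Fin (n + 1)) R) :=
  Away.mk 𝒢 (ProjMap.X_mem i) 1 (X a) (by simpa using ProjMap.X_mem (R := R) a)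

/-- The chart map from the polynomial ring. -/
def polyToAway (i : Fin (n + 1)) : MvPolynomial (Fin n) R →+* Away 𝒢 (X i : MvPolynomial (Fin (n + 1)) R) :=
  eval₂Hom (constAway n R i) fun k => ratioAway n R i (i.succAbove k)

/-- The affine coordinates. -/
abbrev dehomVec (i : Fin (n + 1)) : Fin (n + 1) → MvPolynomial (Fin n) R :=
  Fin.insertNth (α := fun _ => MvPolynomial (Fin n) R) i 1 fun k => X k

/-- The chart map to the polynomial ring. -/
def awayToPoly (i : Fin (n + 1)) : Away 𝒢 (X i : MvPolynomial (Fin (n + 1)) R) →+* MvPolynomial (Fin n) R :=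
  ProjMap.evalAway (A := MvPolynomial (Fin n) R) (dehomVec n R i) (X i) (by simp)

theorem awayToPoly_ratio (i a : Fin (n + 1)) :
    awayToPoly n R i (ratioAway n R i a) = dehomVec n R i a := by
  have h := ProjMap.evalAway_mk (A := MvPolynomial (Fin n) R) (v := dehomVec n R i) (ProjMap.X_mem i)
    (by simp) 1 (X a) (by simpa using ProjMap.X_mem (R := R) a)
  simpa [awayToPoly, ratioAway] using h

theorem awayToPoly_comp (i : Fin (n + 1)) : (awayToPoly n R i).comp (polyToAway n R i) = RingHom.id _ := by
  refine MvPolynomial.ringHom_ext (fun r => ?_) fun k => ?_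
  · simp only [polyToAway, RingHom.comp_apply, eval₂Hom_C, RingHom.id_apply]
    exact ProjMap.evalAway_fromZero (A := MvPolynomial (Fin n) R) _ _ _ r
  · simp only [polyToAway, RingHom.comp_apply, eval₂Hom_X', RingHom.id_apply]
    rw [awayToPoly_ratio]
    simp

theorem polyToAway_comp (i : Fin (n + 1)) : (polyToAway n R i).comp (awayToPoly n R i) = RingHom.id _ := by
  letI : Algebra R (Away 𝒢 (X i : MvPolynomial (Fin (n + 1)) R)) := (constAway n R i).toAlgebra
  have hid := ProjMap.eq_evalAway_coords (R := R) (A := Away 𝒢 (X i : MvPolynomial (Fin (n + 1)) R)) i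
    (RingHom.id _) fun _ => rfl
  rw [awayToPoly, ProjMap.comp_evalAway (B := Away 𝒢 (X i : MvPolynomial (Fin (n + 1)) R)) (polyToAway n R i)
    (fun r => eval₂Hom_C _ _ r) (ProjMap.X_mem i) _ (by simp)]
  conv_rhs => rw [hid]
  congr 1
  funext a
  rcases Fin.eq_self_or_eq_succAbove i a with rfl | ⟨k, rfl⟩
  · simp
  · simp [polyToAway, ProjMap.coords, ratioAway]

/-- The chart is a polynomial ring. -/
def chartEquiv (i : Fin (n + 1)) : MvPolynomial (Fin n) R ≃+* Γ(CohB1.ProjSpace n R, stdOpen n R i) :=
  (RingEquiv.ofRingHom (polyToAway n R i) (awayToPoly n R i) (polyToAway_comp n R i) (awayToPoly_comp n R i)).trans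
    (Proj.basicOpenIsoAway 𝒢 (X i) (ProjMap.X_mem i) one_pos).commRingCatIsoToRingEquiv

theorem chartEquiv_X (i : Fin (n + 1)) (k : Fin n) :
    chartEquiv n R i (X k) = coordRatio n R i (i.succAbove k) := by
  show Proj.awayToSection 𝒢 (X i) (polyToAway n R i (X k)) = _
  rw [polyToAway, eval₂Hom_X']
  exact ProjCoh.awayToSection_ratio 𝒢 (coordForm n R i) (coordForm n R (i.succAbove k))

variable [IsDomain R]

instance isIntegral_projSpace : IsIntegral (CohB1.ProjSpace n R) := REqLib.isIntegral_proj_domain n R

/-- The generic point. -/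
abbrev gen : CohB1.ProjSpace n R := genericPoint (CohB1.ProjSpace n R)

theorem gen_mem {W : (CohB1.ProjSpace n R).Opens} [h : Nonempty W] : gen n R ∈ W :=
  ((genericPoint_spec _).mem_open_set_iff W.isOpen).mpr (by simpa using h)

instance nonempty_stdOpen (i : Fin (n + 1)) : Nonempty (stdOpen n R i) := by
  by_contra hne
  have : Subsingleton Γ(CohB1.ProjSpace n R, stdOpen n R i) := by
    have e : stdOpen n R i = ⊥ := Opens.ext (Set.eq_empty_of_forall_notMem fun x hx => hne ⟨⟨x, hx⟩⟩)
    rw [e]
    exact CommRingCat.subsingleton_of_isTerminal (CohB1.ProjSpace n R).sheaf.isTerminalOfEmpty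
  exact not_subsingleton _ ((chartEquiv n R i).toEquiv.subsingleton)

/-- The chart in the function field. -/
def φ (i : Fin (n + 1)) : MvPolynomial (Fin n) R →+* (CohB1.ProjSpace n R).functionField :=
  ((CohB1.ProjSpace n R).germToFunctionField (stdOpen n R i)).hom.comp (chartEquiv n R i).toRingHom

theorem φ_injective (i : Fin (n + 1)) : Function.Injective (φ n R i) :=
  ((CohB1.ProjSpace n R).germToFunctionField_injective (stdOpen n R i)).comp (chartEquiv n R i).injective

/-- The ratio of two coordinates in the function field. -/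
def t (i a : Fin (n + 1)) : (CohB1.ProjSpace n R).functionField :=
  (CohB1.ProjSpace n R).germToFunctionField (stdOpen n R i) (coordRatio n R i a)

theorem φ_X (i : Fin (n + 1)) (k : Fin n) : φ n R i (X k) = t n R i (i.succAbove k) :=
  congrArg ((CohB1.ProjSpace n R).germToFunctionField (stdOpen n R i)) (chartEquiv_X n R i k)

/-- The generic germ of a coordinate section. -/
def tau (a : Fin (n + 1)) :
    (Twist.twistProjSpace n R 1).presheaf.stalk (gen n R) :=
  (Twist.twistProjSpace n R 1).presheaf.germ _ (gen n R) (gen_mem n R (W := stdOpen n R a))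
    (resT (sec (coordSec n R a)) (stdOpen n R a))

theorem tau_eq (i a : Fin (n + 1)) : tau n R a = t n R i a • tau n R i := by
  have h := congrArg ((Twist.twistProjSpace n R 1).presheaf.germ _ (gen n R) (gen_mem n R (W := stdOpen n R i)))
    (coordRatio_smul n R i a)
  rw [germ_smul'] at h
  refine Eq.trans ?_ h.symm
  rw [tau, resT, resT, TopCat.Presheaf.germ_res_apply, TopCat.Presheaf.germ_res_apply]

theorem bijective_tau (i : Fin (n + 1)) :
    Function.Bijective fun r : (CohB1.ProjSpace n R).presheaf.stalk (gen n R) => r • tau n R i :=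
  (gen_coordSec n R i).bijective_germ _ _

theorem t_self (i : Fin (n + 1)) : t n R i i = 1 :=
  (bijective_tau n R i).1 (((tau_eq n R i i).symm).trans (one_smul _ _).symm)

theorem t_mul (i j k : Fin (n + 1)) : t n R i j * t n R j k = t n R i k := by
  refine (bijective_tau n R i).1 ?_
  show (t n R i j * t n R j k) • tau n R i = t n R i k • tau n R i
  rw [mul_comm, mul_smul, ← tau_eq, ← tau_eq, ← tau_eq]

theorem t_ne_zero (i j : Fin (n + 1)) : t n R i j ≠ 0 := fun h => by
  have := t_mul n R i j i
  rw [h, zero_mul, t_self] at this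
  exact zero_ne_one this

theorem φ_C (i j : Fin (n + 1)) (r : R) : φ n R i (C r) = φ n R j (C r) := by
  have h1 : ∀ k : Fin (n + 1), φ n R k (C r) =
      (CohB1.ProjSpace n R).germToFunctionField (stdOpen n R k)
        (Proj.awayToSection 𝒢 (X k) (constAway n R k r)) := fun k => by
    show (CohB1.ProjSpace n R).germToFunctionField (stdOpen n R k) (Proj.awayToSection 𝒢 (X k) (polyToAway n R k (C r))) = _
    rw [polyToAway, eval₂Hom_C]
  rw [h1, h1]
  have hi := gen_mem n R (W := stdOpen n R i)
  have hj := gen_mem n R (W := stdOpen n R j)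
  refine TopCat.Presheaf.germ_ext (CohB1.ProjSpace n R).presheaf (stdOpen n R i ⊓ stdOpen n R j) ⟨hi, hj⟩
    (homOfLE inf_le_left) (homOfLE inf_le_right) ?_
  refine Subtype.ext (funext fun x => HomogeneousLocalization.val_injective _ ?_)
  show HomogeneousLocalization.val (HomogeneousLocalization.mk _) =
    HomogeneousLocalization.val (HomogeneousLocalization.mk _)
  simp only [HomogeneousLocalization.val_mk]

end Groth.Agent.PicProjLib
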