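import Groth.Agent.PicProjLib.Chart

/-!
# Units on the standard opens of projective space
-/

set_option autoImplicit false
set_option backward.isDefEq.respectTransparency false
set_option linter.style.haveILetI false
set_option linter.unusedSectionVars false

universe u

open CategoryTheory AlgebraicGeometry TopologicalSpace MvPolynomial
open Groth.Agent.AmpleEmb

noncomputable section

namespace Groth.Agent.PicProjLib

variable (n : ℕ) (R : Type u) [CommRing R] [IsDomain R]

/-- The constants in the function field. -/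
def cst (r : Rˣ) : (CohB1.ProjSpace n R).functionField := φ n R 0 (C (r : R))

theorem cst_mul (r s : Rˣ) : cst n R (r * s) = cst n R r * cst n R s := by
  simp [cst]

theorem cst_one : cst n R 1 = 1 := by simp [cst]

theorem cst_ne_zero (r : Rˣ) : cst n R r ≠ 0 := fun h => by
  have := cst_mul n R r r⁻¹
  rw [mul_inv_cancel, cst_one, h, zero_mul] at this
  exact one_ne_zero this

theorem cst_inv (r : Rˣ) : cst n R r⁻¹ = (cst n R r)⁻¹ := by
  refine eq_inv_of_mul_eq_one_left ?_
  rw [← cst_mul, inv_mul_cancel, cst_one]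

theorem exists_res_mul_pow (i j : Fin (n + 1)) {W : (CohB1.ProjSpace n R).Opens}
    (hW : W = stdOpen n R i ⊓ stdOpen n R j) [Nonempty W] (u : Γ(CohB1.ProjSpace n R, W)) :
    ∃ (N : ℕ) (a : MvPolynomial (Fin n) R),
      (CohB1.ProjSpace n R).germToFunctionField W u * t n R i j ^ N = φ n R i a := by
  rw [← basicOpen_coordRatio] at hW
  subst hW
  haveI := (isAffineOpen_stdOpen n R i).isLocalization_basicOpen (coordRatio n R i j)
  obtain ⟨N, z, hz⟩ := IsLocalization.Away.surj (coordRatio n R i j) u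
  refine ⟨N, (chartEquiv n R i).symm z, ?_⟩
  have hg : ∀ y : Γ(CohB1.ProjSpace n R, stdOpen n R i),
      (CohB1.ProjSpace n R).germToFunctionField ((CohB1.ProjSpace n R).basicOpen (coordRatio n R i j)) (algebraMap _ _ y) =
        (CohB1.ProjSpace n R).germToFunctionField (stdOpen n R i) y := fun y =>
    TopCat.Presheaf.germ_res_apply _ _ _ _ _
  have h := congrArg ((CohB1.ProjSpace n R).germToFunctionField ((CohB1.ProjSpace n R).basicOpen (coordRatio n R i j))) hz
  rw [map_mul, map_pow, hg, hg] at h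
  exact h.trans (congrArg ((CohB1.ProjSpace n R).germToFunctionField (stdOpen n R i))
    ((chartEquiv n R i).apply_symm_apply z).symm)

/-- Units where two coordinates are invertible. -/
theorem exists_unit_eq (i : Fin (n + 1)) (k : Fin n) {W : (CohB1.ProjSpace n R).Opens}
    (hW : W = stdOpen n R i ⊓ stdOpen n R (i.succAbove k)) [Nonempty W] (u : Γ(CohB1.ProjSpace n R, W)) (hu : IsUnit u) :
    ∃ (r : Rˣ) (m : ℤ), (CohB1.ProjSpace n R).germToFunctionField W u = cst n R r * t n R i (i.succAbove k) ^ m := by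
  obtain ⟨v, rfl⟩ := hu
  obtain ⟨N, a, ha⟩ := exists_res_mul_pow n R i _ hW v.1
  obtain ⟨M, b, hb⟩ := exists_res_mul_pow n R i _ hW (↑v⁻¹ : Γ(CohB1.ProjSpace n R, W))
  have hab : a * b = X k ^ (N + M) := φ_injective n R i (by
    rw [map_mul, map_pow, φ_X, ← ha, ← hb, pow_add]
    have h1 : (CohB1.ProjSpace n R).germToFunctionField W v.1 *
        (CohB1.ProjSpace n R).germToFunctionField W (↑v⁻¹ : Γ(CohB1.ProjSpace n R, W)) = 1 := by
      rw [← map_mul, Units.mul_inv, map_one]
    linear_combination (t n R i (i.succAbove k) ^ N * t n R i (i.succAbove k) ^ M) * h1)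
  obtain ⟨e, -, he⟩ := (dvd_prime_pow (MvPolynomial.X_prime (R := R) (i := k)) (N + M)).1 ⟨b, hab.symm⟩
  obtain ⟨w, hw⟩ := he.symm
  obtain ⟨r, hr, hrw⟩ := MvPolynomial.isUnit_iff_eq_C_of_isReduced.1 w.isUnit
  refine ⟨hr.unit, (e : ℤ) - N, ?_⟩
  rw [zpow_sub₀ (t_ne_zero n R _ _), zpow_natCast, zpow_natCast, mul_div_assoc', eq_div_iff (pow_ne_zero _ (t_ne_zero n R _ _)),
    ha, ← hw, map_mul, map_pow, φ_X, hrw, cst, φ_C n R i 0, mul_comm]
  rfl

/-- Monomials in distinct coordinates are independent. -/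
theorem exponents_eq_zero (i : Fin (n + 1)) (k l : Fin n) (hkl : k ≠ l) (r : Rˣ) (a b : ℤ)
    (h : cst n R r * t n R i (i.succAbove k) ^ a * t n R i (i.succAbove l) ^ b = 1) : a = 0 ∧ b = 0 := by
  obtain ⟨a₁, a₂, rfl⟩ : ∃ p q : ℕ, a = (p : ℤ) - q := ⟨a.toNat, (-a).toNat, (Int.toNat_sub_toNat_neg a).symm⟩
  obtain ⟨b₁, b₂, rfl⟩ : ∃ p q : ℕ, b = (p : ℤ) - q := ⟨b.toNat, (-b).toNat, (Int.toNat_sub_toNat_neg b).symm⟩
  have hx := t_ne_zero n R i (i.succAbove k)
  have hy := t_ne_zero n R i (i.succAbove l)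
  have h1 : C (r : R) * X k ^ a₁ * X l ^ b₁ = (X k ^ a₂ * X l ^ b₂ : MvPolynomial (Fin n) R) := φ_injective n R i (by
    simp only [map_mul, map_pow, φ_X]
    rw [φ_C n R i 0, ← cst]
    rw [zpow_sub₀ hx, zpow_sub₀ hy, zpow_natCast, zpow_natCast, zpow_natCast, zpow_natCast] at h
    field_simp at h
    linear_combination h)
  rw [X_pow_eq_monomial, X_pow_eq_monomial, X_pow_eq_monomial, X_pow_eq_monomial, C_mul_monomial, monomial_mul,
    monomial_mul] at h1
  rcases monomial_eq_monomial_iff _ _ _ _ |>.1 h1 with ⟨he, -⟩ | ⟨h0, -⟩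
  · have hk := DFunLike.congr_fun he k
    have hl := DFunLike.congr_fun he l
    simp only [Finsupp.add_apply, Finsupp.single_apply, if_true, hkl, Ne.symm hkl, if_false, add_zero, zero_add] at hk hl
    omega
  · simp at h0

theorem exponent_eq_zero (i : Fin (n + 1)) (k : Fin n) (r : Rˣ) (a : ℤ)
    (h : cst n R r * t n R i (i.succAbove k) ^ a = 1) : a = 0 := by
  obtain ⟨a₁, a₂, rfl⟩ : ∃ p q : ℕ, a = (p : ℤ) - q := ⟨a.toNat, (-a).toNat, (Int.toNat_sub_toNat_neg a).symm⟩
  have hx := t_ne_zero n R i (i.succAbove k)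
  have h1 : C (r : R) * X k ^ a₁ = (X k ^ a₂ : MvPolynomial (Fin n) R) := φ_injective n R i (by
    simp only [map_mul, map_pow, φ_X]
    rw [φ_C n R i 0, ← cst]
    rw [zpow_sub₀ hx, zpow_natCast, zpow_natCast] at h
    field_simp at h
    linear_combination h)
  rw [X_pow_eq_monomial, X_pow_eq_monomial, C_mul_monomial] at h1
  rcases monomial_eq_monomial_iff _ _ _ _ |>.1 h1 with ⟨he, -⟩ | ⟨h0, -⟩
  · have hk := DFunLike.congr_fun he k
    simp only [Finsupp.single_apply, if_true] at hk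
    omega
  · simp at h0

/-- Functions on a chart which are units are constants. -/
theorem exists_unit_eq_cst (i : Fin (n + 1)) (u : Γ(CohB1.ProjSpace n R, stdOpen n R i)) (hu : IsUnit u) :
    ∃ r : Rˣ, (CohB1.ProjSpace n R).germToFunctionField (stdOpen n R i) u = cst n R r := by
  obtain ⟨r, hr, hrw⟩ := MvPolynomial.isUnit_iff_eq_C_of_isReduced.1 (hu.map (chartEquiv n R i).symm)
  refine ⟨hr.unit, ?_⟩
  rw [cst, φ_C n R 0 i]
  refine (congrArg _ ((chartEquiv n R i).apply_symm_apply u).symm).trans ?_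
  rw [hrw]
  rfl

end Groth.Agent.PicProjLib
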